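import Groth.Prelude.Def_PicRel2
import Groth.Agent.Lib.PicH1.Pic
import Groth.Agent.Lib.PicTan26.Setup
import Groth.Agent.Lib.Poincare.DualBC
import Mathlib.AlgebraicGeometry.Sites.Proetale
import Mathlib.CategoryTheory.Monoidal.Cartesian.Grp

/-!
# The group structure on a representing scheme of the relative Picard functor
-/

set_option autoImplicit false
set_option backward.isDefEq.respectTransparency false
set_option linter.style.haveILetI false

universe u

open CategoryTheory CategoryTheory.Limits AlgebraicGeometry Opposite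

noncomputable section

namespace GrothLib.RelPicGrp26

variable {X S : Scheme.{u}} (f : X ⟶ S)

theorem mem_etalePrecoverage {T : Scheme.{u}} {ι : Type u} (U : ι → T.Etale) (hU : EtCoh.Covers U) :
    Presieve.ofArrows (fun i => (U i).left) (fun i => (U i).hom) ∈ Scheme.etalePrecoverage T :=
  (Scheme.ofArrows_mem_precoverage_iff _).2 ⟨fun x => hU x, fun i => (U i).prop⟩

/-- Morphisms glue along étale coverings. -/
theorem existsUnique_glue {T : Scheme.{u}} {ι : Type u} (U : ι → T.Etale) (hU : EtCoh.Covers U) {P : Scheme.{u}}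
    (x : ∀ i, (U i).left ⟶ P)
    (hx : ∀ (i j : ι) (Z : Scheme.{u}) (a : Z ⟶ (U i).left) (b : Z ⟶ (U j).left),
      a ≫ (U i).hom = b ≫ (U j).hom → a ≫ x i = b ≫ x j) :
    ∃! t : T ⟶ P, ∀ i, (U i).hom ≫ t = x i := by
  haveI : Scheme.etaleTopology.{u}.Subcanonical :=
    GrothendieckTopology.Subcanonical.of_le Scheme.etaleTopology_le_proetaleTopology
  have h := (GrothendieckTopology.Subcanonical.isSheaf_of_isRepresentable (J := Scheme.etaleTopology.{u})
    (yoneda.obj P)).isSheafFor _ (Precoverage.generate_mem_toGrothendieck (mem_etalePrecoverage U hU))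
  rw [Presieve.isSheafFor_arrows_iff] at h
  exact h x fun i j Z a b e => hx i j Z a b e

theorem hom_ext_covers {T P : Over S} {ι : Type u} (U : ι → T.left.Etale) (hU : EtCoh.Covers U) {x y : T ⟶ P}
    (h : ∀ i, PicRel.ovrHom T (U i) ≫ x = PicRel.ovrHom T (U i) ≫ y) : x = y := by
  refine CategoryTheory.Over.OverMorphism.ext ((existsUnique_glue U hU (fun i => (U i).hom ≫ x.left)
    (fun i j Z a b e => by simp only [← Category.assoc, e])).unique (fun i => rfl) fun i => ?_)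
  exact (congrArg CommaMorphism.left (h i)).symm

/-- Gluing of morphisms over the base. -/
theorem exists_glue_over {T P : Over S} {ι : Type u} (U : ι → T.left.Etale) (hU : EtCoh.Covers U)
    (x : ∀ i, PicRel.ovr T (U i) ⟶ P)
    (hx : ∀ (i j : ι) (W : Over S) (a : W ⟶ PicRel.ovr T (U i)) (b : W ⟶ PicRel.ovr T (U j)),
      a ≫ PicRel.ovrHom T (U i) = b ≫ PicRel.ovrHom T (U j) → a ≫ x i = b ≫ x j) :
    ∃ t : T ⟶ P, ∀ i, PicRel.ovrHom T (U i) ≫ t = x i := by
  obtain ⟨t, ht, -⟩ := existsUnique_glue U hU (fun i => (x i).left) fun i j Z a b e => by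
    let W : Over S := Over.mk (a ≫ (U i).hom ≫ T.hom)
    exact congrArg CommaMorphism.left (hx i j W (Over.homMk a rfl) (Over.homMk b (by
      show b ≫ (U j).hom ≫ T.hom = a ≫ (U i).hom ≫ T.hom
      rw [← Category.assoc, ← e, Category.assoc]))
      (CategoryTheory.Over.OverMorphism.ext e))
  have hw : t ≫ P.hom = T.hom :=
    (existsUnique_glue U hU (fun i => (U i).hom ≫ T.hom)
      (fun i j Z a b e => by simp only [← Category.assoc, e])).unique
      (fun i => by rw [← Category.assoc, ht i]; exact Over.w (x i)) (fun i => rfl)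
  exact ⟨Over.homMk t hw, fun i => CategoryTheory.Over.OverMorphism.ext (ht i)⟩

/-- Composition of étale coverings. -/
theorem covers_comp {T : Scheme.{u}} {ι : Type u} (U : ι → T.Etale) (hU : EtCoh.Covers U) {κ : ι → Type u}
    (V : ∀ i, κ i → (U i).left.Etale) (hV : ∀ i, EtCoh.Covers (V i)) :
    EtCoh.Covers (fun p : Σ i, κ i =>
      haveI := (V p.1 p.2).prop
      haveI := (U p.1).prop
      Scheme.Etale.mk ((V p.1 p.2).hom ≫ (U p.1).hom)) := fun x => by
  obtain ⟨i, y, hy⟩ := hU x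
  obtain ⟨j, z, hz⟩ := hV i y
  refine ⟨⟨i, j⟩, z, ?_⟩
  show ((V i j).hom ≫ (U i).hom) z = x
  rw [Scheme.Hom.comp_apply, ← hy]
  exact congrArg (U i).hom hz

variable {f} {P : Over S} {φ : ∀ T : Over S, PicF.Cl (PicF.XT f T) → (T ⟶ P)}

/-- The morphism attached to an element of the Picard group. -/
def Φ (φ : ∀ T : Over S, PicF.Cl (PicF.XT f T) → (T ⟶ P)) (T : Over S) (a : Cube.Pic (PicF.XT f T)) : T ⟶ P :=
  φ T ((Equiv.ofBijective _ (PicH1.picSetMap_bijective (PicF.XT f T))).symm a).1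

theorem Φ_picSetMap (T : Over S) (c : PicLoc.PicSet (PicF.XT f T)) : Φ φ T (PicH1.picSetMap c) = φ T c.1 := by
  rw [Φ, Equiv.ofBijective_symm_apply_apply]

theorem pull_XTmap_comp {T T' T'' : Over S} (g : T'' ⟶ T') (g' : T' ⟶ T) (a : Cube.Pic (PicF.XT f T)) :
    Cube.pull (PicF.XTmap f g) (Cube.pull (PicF.XTmap f g') a) = Cube.pull (PicF.XTmap f (g ≫ g')) a := by
  obtain ⟨c, rfl⟩ := (PicH1.picSetMap_bijective _).2 a
  rw [← PicH1.picSetMap_pull, ← PicH1.picSetMap_pull, ← PicH1.picSetMap_pull]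
  exact congrArg PicH1.picSetMap (Subtype.ext ((DualBC.pullCl_comp _ _ _).trans
    (congrArg (fun q => PicF.pullCl q c.1) (PicTan26.XTmap_comp f g' g).symm)))

variable (hP : PicRel.IsRelPic f P φ)

include hP

theorem Φ_natural {T T' : Over S} (g : T' ⟶ T) (a : Cube.Pic (PicF.XT f T)) :
    Φ φ T' (Cube.pull (PicF.XTmap f g) a) = g ≫ Φ φ T a := by
  obtain ⟨c, rfl⟩ := (PicH1.picSetMap_bijective _).2 a
  rw [← PicH1.picSetMap_pull, Φ_picSetMap, Φ_picSetMap]
  exact hP.natural T T' g c.1 c.2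

theorem exists_rep (T : Over S) (g : T ⟶ P) : ∃ (ι : Type u) (U : ι → T.left.Etale), EtCoh.Covers U ∧
    ∀ i, ∃ a, Φ φ (PicRel.ovr T (U i)) a = PicRel.ovrHom T (U i) ≫ g := by
  obtain ⟨ι, U, hU, h⟩ := hP.locallySurjective T g
  refine ⟨ι, U, hU, fun i => ?_⟩
  obtain ⟨c, hc, hφ⟩ := h i
  exact ⟨PicH1.picSetMap ⟨c, hc⟩, (Φ_picSetMap _ _).trans hφ⟩

theorem exists_pull_eq {T : Over S} {a b : Cube.Pic (PicF.XT f T)} (h : Φ φ T a = Φ φ T b) :
    ∃ (ι : Type u) (U : ι → T.left.Etale), EtCoh.Covers U ∧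
      ∀ i, Cube.pull (PicF.XTmap f (PicRel.ovrHom T (U i))) a = Cube.pull (PicF.XTmap f (PicRel.ovrHom T (U i))) b := by
  obtain ⟨c, rfl⟩ := (PicH1.picSetMap_bijective _).2 a
  obtain ⟨c', rfl⟩ := (PicH1.picSetMap_bijective _).2 b
  rw [Φ_picSetMap, Φ_picSetMap] at h
  obtain ⟨ι, U, hU, he⟩ := hP.locallyInjective T c.1 c'.1 c.2 c'.2 h
  refine ⟨ι, U, hU, fun i => ?_⟩
  rw [← PicH1.picSetMap_pull, ← PicH1.picSetMap_pull]
  exact congrArg PicH1.picSetMap (Subtype.ext (he i))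

theorem Φ_mul_congr {T : Over S} {a a' : Cube.Pic (PicF.XT f T)} (b : Cube.Pic (PicF.XT f T))
    (h : Φ φ T a = Φ φ T a') : Φ φ T (a * b) = Φ φ T (a' * b) := by
  obtain ⟨ι, U, hU, he⟩ := exists_pull_eq hP h
  refine hom_ext_covers U hU fun i => ?_
  rw [← Φ_natural hP, ← Φ_natural hP, map_mul, map_mul, he i]

theorem Φ_mul_congr₂ {T : Over S} {a a' b b' : Cube.Pic (PicF.XT f T)}
    (h : Φ φ T a = Φ φ T a') (h' : Φ φ T b = Φ φ T b') : Φ φ T (a * b) = Φ φ T (a' * b') := by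
  rw [Φ_mul_congr hP b h, mul_comm, Φ_mul_congr hP a' h', mul_comm]

theorem Φ_inv_congr {T : Over S} {a a' : Cube.Pic (PicF.XT f T)}
    (h : Φ φ T a = Φ φ T a') : Φ φ T a⁻¹ = Φ φ T a'⁻¹ := by
  obtain ⟨ι, U, hU, he⟩ := exists_pull_eq hP h
  refine hom_ext_covers U hU fun i => ?_
  rw [← Φ_natural hP, ← Φ_natural hP, map_inv, map_inv, he i]

/-- Finitely many points are jointly represented by classes on a covering. -/
theorem exists_rep₂ (T : Over S) (g h : T ⟶ P) : ∃ (ι : Type u) (U : ι → T.left.Etale), EtCoh.Covers U ∧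
    ∀ i, ∃ a b, Φ φ (PicRel.ovr T (U i)) a = PicRel.ovrHom T (U i) ≫ g ∧
      Φ φ (PicRel.ovr T (U i)) b = PicRel.ovrHom T (U i) ≫ h := by
  obtain ⟨ι, U, hU, ha⟩ := exists_rep hP T g
  choose κ V hV hb using fun i => exists_rep hP (PicRel.ovr T (U i)) (PicRel.ovrHom T (U i) ≫ h)
  refine ⟨_, _, covers_comp U hU V hV, fun p => ?_⟩
  obtain ⟨a, ha'⟩ := ha p.1
  obtain ⟨b, hb'⟩ := hb p.1 p.2
  haveI := (V p.1 p.2).prop
  haveI := (U p.1).prop
  let W : T.left.Etale := Scheme.Etale.mk ((V p.1 p.2).hom ≫ (U p.1).hom)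
  let e : PicRel.ovr T W ⟶ PicRel.ovr (PicRel.ovr T (U p.1)) (V p.1 p.2) :=
    Over.homMk (𝟙 _) (by
      show 𝟙 _ ≫ (V p.1 p.2).hom ≫ (U p.1).hom ≫ T.hom = ((V p.1 p.2).hom ≫ (U p.1).hom) ≫ T.hom
      rw [Category.id_comp, Category.assoc])
  have he : e ≫ PicRel.ovrHom (PicRel.ovr T (U p.1)) (V p.1 p.2) ≫ PicRel.ovrHom T (U p.1) = PicRel.ovrHom T W :=
    CategoryTheory.Over.OverMorphism.ext (Category.id_comp _)
  refine ⟨Cube.pull (PicF.XTmap f (e ≫ PicRel.ovrHom (PicRel.ovr T (U p.1)) (V p.1 p.2))) a,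
    Cube.pull (PicF.XTmap f e) b, ?_, ?_⟩
  · rw [Φ_natural hP, ha', Category.assoc, ← Category.assoc (PicRel.ovrHom _ _), ← Category.assoc e, he]
  · rw [Φ_natural hP, hb', ← Category.assoc (PicRel.ovrHom _ _), ← Category.assoc e, he]

/-- The characterization of products. -/
def IsMul (φ : ∀ T : Over S, PicF.Cl (PicF.XT f T) → (T ⟶ P)) {T : Over S} (g h m : T ⟶ P) : Prop :=
  ∀ (W : Over S) (u : W ⟶ T) (a b : Cube.Pic (PicF.XT f W)),
    Φ φ W a = u ≫ g → Φ φ W b = u ≫ h → Φ φ W (a * b) = u ≫ m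

theorem exists_isMul {T : Over S} (g h : T ⟶ P) : ∃ m, IsMul φ g h m := by
  obtain ⟨ι, U, hU, hab⟩ := exists_rep₂ hP T g h
  choose a b ha hb using hab
  obtain ⟨m, hm⟩ := exists_glue_over U hU (fun i => Φ φ _ (a i * b i)) fun i j W u v e => by
    rw [← Φ_natural hP, ← Φ_natural hP, map_mul, map_mul]
    refine Φ_mul_congr₂ hP ?_ ?_ <;> rw [Φ_natural hP, Φ_natural hP]
    · rw [ha, ha, ← Category.assoc, ← Category.assoc, e]
    · rw [hb, hb, ← Category.assoc, ← Category.assoc, e]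
  refine ⟨m, fun W u a' b' ha' hb' => ?_⟩
  let U' : ι → W.left.Etale := fun i =>
    haveI : Etale (U i).hom := (U i).prop
    Scheme.Etale.mk (pullback.fst u.left (U i).hom)
  have hU' : EtCoh.Covers U' := fun w => by
    obtain ⟨i, y, hy⟩ := hU (u.left w)
    obtain ⟨z, hz, -⟩ := Scheme.Pullback.exists_preimage_pullback (f := u.left) (g := (U i).hom) w y hy.symm
    exact ⟨i, z, hz⟩
  refine hom_ext_covers U' hU' fun i => ?_
  let v : PicRel.ovr W (U' i) ⟶ PicRel.ovr T (U i) := Over.homMk (pullback.snd u.left (U i).hom) (by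
    show pullback.snd u.left (U i).hom ≫ (U i).hom ≫ T.hom = pullback.fst u.left (U i).hom ≫ W.hom
    rw [← Category.assoc, ← pullback.condition, Category.assoc, Over.w u])
  have hv : v ≫ PicRel.ovrHom T (U i) = PicRel.ovrHom W (U' i) ≫ u :=
    CategoryTheory.Over.OverMorphism.ext pullback.condition.symm
  rw [← Φ_natural hP, map_mul, ← Category.assoc, ← hv, Category.assoc, hm, ← Φ_natural hP, map_mul]
  refine Φ_mul_congr₂ hP ?_ ?_ <;> rw [Φ_natural hP, Φ_natural hP]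
  · rw [ha', ha, ← Category.assoc, ← hv, Category.assoc]
  · rw [hb', hb, ← Category.assoc, ← hv, Category.assoc]

/-- The product of two points. -/
def pmul {T : Over S} (g h : T ⟶ P) : T ⟶ P := (exists_isMul hP g h).choose

theorem isMul_pmul {T : Over S} (g h : T ⟶ P) : IsMul φ g h (pmul hP g h) := (exists_isMul hP g h).choose_spec

theorem Φ_mul (T : Over S) (a b : Cube.Pic (PicF.XT f T)) :
    Φ φ T (a * b) = pmul hP (Φ φ T a) (Φ φ T b) := by
  have h := isMul_pmul hP (Φ φ T a) (Φ φ T b) T (𝟙 T) a b (Category.id_comp _).symm (Category.id_comp _).symm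
  rwa [Category.id_comp] at h

theorem comp_pmul {T T' : Over S} (u : T' ⟶ T) (g h : T ⟶ P) : u ≫ pmul hP g h = pmul hP (u ≫ g) (u ≫ h) := by
  obtain ⟨ι, U, hU, hab⟩ := exists_rep₂ hP T' (u ≫ g) (u ≫ h)
  refine hom_ext_covers U hU fun i => ?_
  obtain ⟨a, b, ha, hb⟩ := hab i
  rw [← isMul_pmul hP (u ≫ g) (u ≫ h) _ _ a b ha hb, ← Category.assoc,
    ← isMul_pmul hP g h _ (PicRel.ovrHom T' (U i) ≫ u) a b (by rw [ha, Category.assoc]) (by rw [hb, Category.assoc])]

/-- The group of points. -/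
@[implicit_reducible]
def pointsGroup (T : Over S) : CommGroup (T ⟶ P) := by
  have hone : ∀ {W W' : Over S} (u : W' ⟶ W), u ≫ Φ φ W 1 = Φ φ W' 1 := fun u => by
    rw [← Φ_natural hP, map_one]
  have hrep : ∀ g : T ⟶ P, ∃ i : T ⟶ P, ∀ (W : Over S) (u : W ⟶ T) (a : Cube.Pic (PicF.XT f W)),
      Φ φ W a = u ≫ g → Φ φ W a⁻¹ = u ≫ i := by
    intro g
    obtain ⟨ι, U, hU, ha⟩ := exists_rep hP T g
    choose a ha using ha
    obtain ⟨m, hm⟩ := exists_glue_over U hU (fun i => Φ φ _ (a i)⁻¹) fun i j W u v e => by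
      rw [← Φ_natural hP, ← Φ_natural hP, map_inv, map_inv]
      refine Φ_inv_congr hP ?_
      rw [Φ_natural hP, Φ_natural hP, ha, ha, ← Category.assoc, ← Category.assoc, e]
    refine ⟨m, fun W u a' ha' => ?_⟩
    let U' : ι → W.left.Etale := fun i =>
      haveI : Etale (U i).hom := (U i).prop
      Scheme.Etale.mk (pullback.fst u.left (U i).hom)
    have hU' : EtCoh.Covers U' := fun w => by
      obtain ⟨i, y, hy⟩ := hU (u.left w)
      obtain ⟨z, hz, -⟩ := Scheme.Pullback.exists_preimage_pullback (f := u.left) (g := (U i).hom) w y hy.symm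
      exact ⟨i, z, hz⟩
    refine hom_ext_covers U' hU' fun i => ?_
    let v : PicRel.ovr W (U' i) ⟶ PicRel.ovr T (U i) := Over.homMk (pullback.snd u.left (U i).hom) (by
      show pullback.snd u.left (U i).hom ≫ (U i).hom ≫ T.hom = pullback.fst u.left (U i).hom ≫ W.hom
      rw [← Category.assoc, ← pullback.condition, Category.assoc, Over.w u])
    have hv : v ≫ PicRel.ovrHom T (U i) = PicRel.ovrHom W (U' i) ≫ u :=
      CategoryTheory.Over.OverMorphism.ext pullback.condition.symm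
    rw [← Φ_natural hP, map_inv, ← Category.assoc, ← hv, Category.assoc, hm, ← Φ_natural hP, map_inv]
    refine Φ_inv_congr hP ?_
    rw [Φ_natural hP, Φ_natural hP, ha', ha, ← Category.assoc, ← hv, Category.assoc]
  choose inv' hinv using hrep
  letI : Mul (T ⟶ P) := ⟨pmul hP⟩
  letI : One (T ⟶ P) := ⟨Φ φ T 1⟩
  letI : Inv (T ⟶ P) := ⟨inv'⟩
  refine
    { mul := (· * ·)
      one := 1
      inv := inv'
      mul_assoc := fun g h k => ?_
      one_mul := fun g => ?_
      mul_one := fun g => ?_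
      inv_mul_cancel := fun g => ?_
      mul_comm := fun g h => ?_ }
  · obtain ⟨ι, U, hU, hab⟩ := exists_rep₂ hP T g h
    refine hom_ext_covers U hU fun i => ?_
    obtain ⟨a, b, ha, hb⟩ := hab i
    obtain ⟨κ, V, hV, hc⟩ := exists_rep hP (PicRel.ovr T (U i)) (PicRel.ovrHom T (U i) ≫ k)
    refine hom_ext_covers V hV fun j => ?_
    obtain ⟨c, hc⟩ := hc j
    show _ ≫ _ ≫ pmul hP (pmul hP g h) k = _ ≫ _ ≫ pmul hP g (pmul hP h k)
    rw [comp_pmul hP, comp_pmul hP, comp_pmul hP, comp_pmul hP, comp_pmul hP, comp_pmul hP, comp_pmul hP,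
      comp_pmul hP, ← ha, ← hb, ← hc, ← Φ_natural hP, ← Φ_natural hP, ← Φ_mul hP, ← Φ_mul hP, ← Φ_mul hP,
      ← Φ_mul hP, mul_assoc]
  · obtain ⟨ι, U, hU, hab⟩ := exists_rep hP T g
    refine hom_ext_covers U hU fun i => ?_
    obtain ⟨a, ha⟩ := hab i
    show _ ≫ pmul hP (Φ φ T 1) g = _
    rw [comp_pmul hP, hone, ← ha, ← Φ_mul hP, one_mul]
  · obtain ⟨ι, U, hU, hab⟩ := exists_rep hP T g
    refine hom_ext_covers U hU fun i => ?_
    obtain ⟨a, ha⟩ := hab i
    show _ ≫ pmul hP g (Φ φ T 1) = _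
    rw [comp_pmul hP, hone, ← ha, ← Φ_mul hP, mul_one]
  · obtain ⟨ι, U, hU, hab⟩ := exists_rep hP T g
    refine hom_ext_covers U hU fun i => ?_
    obtain ⟨a, ha⟩ := hab i
    show _ ≫ pmul hP (inv' g) g = _ ≫ Φ φ T 1
    rw [comp_pmul hP, ← hinv g _ _ a ha, ← ha, ← Φ_mul hP, inv_mul_cancel, hone]
  · obtain ⟨ι, U, hU, hab⟩ := exists_rep₂ hP T g h
    refine hom_ext_covers U hU fun i => ?_
    obtain ⟨a, b, ha, hb⟩ := hab i
    show _ ≫ pmul hP g h = _ ≫ pmul hP h g
    rw [comp_pmul hP, comp_pmul hP, ← ha, ← hb, ← Φ_mul hP, ← Φ_mul hP, mul_comm]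

theorem one_eq (T : Over S) :
    letI := pointsGroup hP T
    (1 : T ⟶ P) = φ T (PicF.cl (Coh.structureModule _)) := by
  show Φ φ T 1 = _
  refine Eq.trans ?_ (Φ_picSetMap T ⟨_, _, rfl, Euler.isInvertible_structure⟩)
  refine congrArg (Φ φ T) ?_
  rw [PicH1.picSetMap_eq _ Euler.isInvertible_structure rfl, eq_comm, Cube.clsMod_eq_one_iff]
  exact ⟨Iso.refl _⟩

/-- The representing scheme is a group scheme. -/
@[implicit_reducible]
def grpObj : GrpObj P :=
  letI := fun T : Over S => pointsGroup hP T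
  GrpObj.ofRepresentableBy P
    { obj := fun T => GrpCat.of (T.unop ⟶ P)
      map := fun {T T'} u => GrpCat.ofHom
        { toFun := fun g => u.unop ≫ g
          map_one' := by
            show u.unop ≫ Φ φ T.unop 1 = Φ φ T'.unop 1
            rw [← Φ_natural hP, map_one]
          map_mul' := fun g h => comp_pmul hP u.unop g h }
      map_id := fun T => GrpCat.hom_ext (MonoidHom.ext fun g => Category.id_comp g)
      map_comp := fun u v => GrpCat.hom_ext (MonoidHom.ext fun g => by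
        show (v.unop ≫ u.unop) ≫ g = v.unop ≫ u.unop ≫ g
        exact Category.assoc _ _ _) }
    { homEquiv := fun {T} => Equiv.refl _
      homEquiv_comp := fun u g => rfl }

end GrothLib.RelPicGrp26
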